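import Groth.Agent.L16.Connected.OverField

/-!
# Radiciality of the Stein factor is inherited by base change
-/

set_option autoImplicit false
set_option linter.style.haveILetI false
set_option linter.unusedSectionVars false
set_option backward.isDefEq.respectTransparency false

universe u

open CategoryTheory CategoryTheory.Limits AlgebraicGeometry TopologicalSpace Opposite

noncomputable section

namespace Groth.L17.SteinBC

variable {X Y : Scheme.{u}} (f : X ⟶ Y) [IsProper f]

/-- With a radicial Stein factor, all geometric fibres are connected or empty. -/
theorem preconnectedSpace_pullback [UniversallyInjective f.fromNormalization] (K : Type u) [Field K]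
    (σ : Spec (CommRingCat.of K) ⟶ Y) : PreconnectedSpace ↥(pullback f σ) := by
  haveI := Groth.L16.Connected.geometricallyConnected_toNormalization f
  have hP := IsPullback.of_hasPullback f σ
  have hQ := IsPullback.of_hasPullback f.fromNormalization σ
  let μ : pullback f σ ⟶ pullback f.fromNormalization σ :=
    hQ.lift (pullback.fst f σ ≫ f.toNormalization) (pullback.snd f σ)
      ((Category.assoc _ _ _).trans ((congrArg _ f.toNormalization_fromNormalization).trans hP.w))
  obtain ⟨-, -, -, hiff⟩ := Groth.L16.Connected.stein_bc f σ hP hQ μ (hQ.lift_fst _ _ _) (hQ.lift_snd _ _ _)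
  haveI : UniversallyInjective (pullback.snd f.fromNormalization σ) :=
    MorphismProperty.pullback_snd _ _ inferInstance
  refine preconnectedSpace_iff_connectedComponent.2 fun z => Set.eq_univ_of_forall fun w => ?_
  rw [(hiff z w).1 ((pullback.snd f.fromNormalization σ).injective
    (Subsingleton.elim (α := Spec (CommRingCat.of K)) _ _))]
  exact mem_connectedComponent

/-- Connected geometric fibres make the Stein factor radicial. -/
theorem universallyInjective_fromNormalization
    (h : ∀ (K : Type u) [Field K] (σ : Spec (CommRingCat.of K) ⟶ Y), PreconnectedSpace ↥(pullback f σ)) :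
    UniversallyInjective f.fromNormalization := by
  refine ⟨fun {A B} i₁ i₂ g' H a a' haa => ?_⟩
  let σ := B.fromSpecResidueField (g' a) ≫ i₂
  have hQ : IsPullback (g'.fiberι (g' a) ≫ i₁) (g'.fiberToSpecResidueField (g' a)) f.fromNormalization σ :=
    (IsPullback.of_hasPullback g' (B.fromSpecResidueField (g' a))).paste_horiz H.flip
  have hP := IsPullback.of_hasPullback f σ
  obtain ⟨-, -, hs, hiff⟩ := Groth.L16.Connected.stein_bc f σ hP hQ
    (hQ.lift (pullback.fst f σ ≫ f.toNormalization) (pullback.snd f σ)
      ((Category.assoc _ _ _).trans ((congrArg _ f.toNormalization_fromNormalization).trans hP.w)))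
    (hQ.lift_fst _ _ _) (hQ.lift_snd _ _ _)
  haveI := h _ σ
  obtain ⟨z, hz⟩ := hs (g'.asFiber a)
  obtain ⟨z', hz'⟩ := hs ((g'.fiberHomeo (g' a)).symm ⟨a', haa.symm⟩)
  have he := (hiff z z').2 (by
    rw [PreconnectedSpace.connectedComponent_eq_univ, PreconnectedSpace.connectedComponent_eq_univ])
  rw [hz, hz'] at he
  exact congrArg Subtype.val ((g'.fiberHomeo (g' a)).symm.injective he)

/-- Radiciality of the Stein factor is stable under base change. -/
theorem universallyInjective_fromNormalization_snd [UniversallyInjective f.fromNormalization] {Y' : Scheme.{u}}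
    (g : Y' ⟶ Y) : UniversallyInjective (pullback.snd f g).fromNormalization :=
  universallyInjective_fromNormalization _ fun K _ σ => by
    haveI := preconnectedSpace_pullback f K (σ ≫ g)
    exact (((IsPullback.of_hasPullback (pullback.snd f g) σ).paste_horiz
      (IsPullback.of_hasPullback f g)).isoPullback).hom.homeomorph.symm.surjective.denseRange.preconnectedSpace
        (((IsPullback.of_hasPullback (pullback.snd f g) σ).paste_horiz
          (IsPullback.of_hasPullback f g)).isoPullback).hom.homeomorph.symm.continuous

/-- The Stein factor over an affine base, through the ring of functions. -/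
theorem universallyInjective_fromNormalization_iff [IsAffine Y] :
    UniversallyInjective f.fromNormalization ↔ UniversallyInjective (Spec.map f.appTop) := by
  let N := f.normalization
  haveI : IsAffine N := isAffine_of_isAffineHom f.fromNormalization
  haveI : IsIso f.toNormalization.appTop := Groth.L00.SteinNorm.isIso_toNormalization_app f ⊤
  have h1 : f.fromNormalization =
      (N.toSpecΓ ≫ inv (Spec.map f.toNormalization.appTop)) ≫ Spec.map f.appTop ≫ inv Y.toSpecΓ := by
    rw [show f.appTop = (f.toNormalization ≫ f.fromNormalization).appTop by rw [f.toNormalization_fromNormalization],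
      Scheme.Hom.comp_appTop, Spec.map_comp]
    simp only [Category.assoc, IsIso.inv_hom_id_assoc]
    rw [← Scheme.toSpecΓ_naturality_assoc, IsIso.hom_inv_id, Category.comp_id]
  rw [h1, MorphismProperty.cancel_left_of_respectsIso @UniversallyInjective,
    MorphismProperty.cancel_right_of_respectsIso @UniversallyInjective]

end Groth.L17.SteinBC
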